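import Cfsg.Agent.Lib.CharApps.SquarefreeDegrees.Orbits
import Cfsg.Agent.Lib.CharsMore.CdTwo
import Cfsg.Agent.Lib.CharsMore.CliffordDegree
import Cfsg.Agent.Lib.CharApps.Basic
import Cfsg.Agent.Lib.SolvStruct.AbelianNilpotentDerivedLength
import Cfsg.Agent.S0586

/-!
# Solvable groups with squarefree character degrees

Modulo the Fitting subgroup every Sylow subgroup of the Fitting subgroup has prime order, so the
quotient is metabelian; the Fitting subgroup is metabelian as well.
-/

set_option autoImplicit false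
set_option linter.style.haveILetI false
set_option linter.unusedSectionVars false

open Cfsg CfsgLib CfsgLib.CharsMore
open scoped commutatorElement

namespace CfsgLib.SquarefreeDegrees

universe u

/-- All irreducible degrees are squarefree. -/
def SqfDegrees (G : Type u) [Group G] : Prop :=
  ∀ χ : IrrCharacter G, Squarefree (charDegree (χ : G → ℂ))

theorem derivedSeries_two_of_comm {G : Type u} [Group G]
    (h : ∀ a ∈ commutator G, ∀ b ∈ commutator G, a * b = b * a) : derivedSeries G 2 = ⊥ := by
  rw [derivedSeries_succ, derivedSeries_one, eq_bot_iff, Subgroup.commutator_le]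
  intro a ha b hb
  exact Subgroup.mem_bot.2 (commutatorElement_eq_one_iff_mul_comm.2 (h a ha b hb))

theorem SqfDegrees.normal {G : Type u} [Group G] [Finite G] (h : SqfDegrees G) (N : Subgroup G)
    [N.Normal] : SqfDegrees N := by
  intro θ
  haveI := Fintype.ofFinite G
  haveI := Fintype.ofFinite N
  obtain ⟨χ, hχ⟩ := exists_over N θ.2
  obtain ⟨k, -, hk, -⟩ := degree_quotient N χ.2 θ.2 hχ
  rw [CharApps.deg_eq, CharApps.deg_eq] at hk
  have hk' : charDegree (χ : G → ℂ) = k * charDegree (θ : N → ℂ) := by exact_mod_cast hk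
  exact Squarefree.squarefree_of_dvd (Dvd.intro_left _ hk'.symm) (h χ)

theorem SqfDegrees.quotient {G : Type u} [Group G] [Finite G] (h : SqfDegrees G) (N : Subgroup G)
    [N.Normal] : SqfDegrees (G ⧸ N) :=
  fun θ => h ⟨_, Chars.isIrrCharacter_inflate N θ.2⟩

theorem derivedSeries_two_of_isPGroup {P : Type u} [Group P] [Finite P] {p : ℕ} [hp : Fact p.Prime]
    (hP : IsPGroup p P) (h : SqfDegrees P) : derivedSeries P 2 = ⊥ := by
  haveI := Fintype.ofFinite P
  refine derivedSeries_two_of_comm (CdTwo.commutator_abelian (m := p) hp.out.ne_zero fun θ => ?_)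
  obtain ⟨n, hn0, hn, hnd⟩ := Chars.irr_degree_dvd_card θ.2
  rw [CharApps.deg_eq] at hn
  have hn' : charDegree (θ : P → ℂ) = n := by exact_mod_cast hn
  obtain ⟨k, hk⟩ := hP.exists_card_eq
  obtain ⟨j, -, hj⟩ := (Nat.dvd_prime_pow hp.out).1 (hk ▸ hnd)
  have h2 := h θ
  rw [hn'] at h2 ⊢
  subst hj
  rcases j with _ | _ | j
  · exact Or.inl (pow_zero p)
  · exact Or.inr (pow_one p)
  · exfalso
    exact hp.out.ne_one (Nat.isUnit_iff.1 (h2 p ⟨p ^ j, by ring⟩))

theorem derivedSeries_two_of_nilpotent {F : Type u} [Group F] [Finite F] [hF : Group.IsNilpotent F]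
    (h : SqfDegrees F) : derivedSeries F 2 = ⊥ := by
  obtain ⟨e⟩ := ((isNilpotent_of_finite_tfae (G := F)).out 0 4).mp hF
  rw [eq_bot_iff]
  intro x hx
  rw [Subgroup.mem_bot]
  obtain ⟨y, rfl⟩ := e.surjective x
  suffices y = 1 by rw [this, map_one]
  funext q P
  haveI : Fact (q : ℕ).Prime := ⟨Nat.prime_of_mem_primeFactors q.2⟩
  haveI : (P : Subgroup F).Normal :=
    ((((Group.isNilpotent_of_finite_tfae (G := F)).out 0 3 rfl rfl).mp hF) q inferInstance P)
  let f : F →* P :=
    ((Pi.evalMonoidHom _ P).comp (Pi.evalMonoidHom _ q)).comp e.symm.toMonoidHom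
  have h1 : f (e y) ∈ derivedSeries P 2 :=
    map_derivedSeries_le_derivedSeries f 2 ⟨e y, hx, rfl⟩
  rw [derivedSeries_two_of_isPGroup P.2 (h.normal _), Subgroup.mem_bot] at h1
  simpa [f] using h1

theorem relIndex_dvd_index {G : Type u} [Group G] [Finite G] (R T : Subgroup G) [R.Normal] :
    T.relIndex R ∣ T.index := by
  have h1 : R.relIndex (R ⊔ T) = (R ⊓ T).relIndex T := by
    rw [Subgroup.inf_relIndex_right, Subgroup.relIndex_sup_left]
  have h2 := Subgroup.relIndex_mul_relIndex (R ⊓ T) T (R ⊔ T) inf_le_right le_sup_right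
  have h3 := Subgroup.relIndex_mul_relIndex (R ⊓ T) R (R ⊔ T) inf_le_left le_sup_left
  rw [h1, ← h2, Subgroup.inf_relIndex_left, mul_comm] at h3
  have h4 : (R ⊓ T).relIndex T ≠ 0 := Subgroup.index_ne_zero_of_finite
  have h5 : T.relIndex R = T.relIndex (R ⊔ T) := Nat.eq_of_mul_eq_mul_left (Nat.pos_of_ne_zero h4) h3
  rw [h5]
  exact Dvd.intro _ (Subgroup.relIndex_mul_index (le_sup_right (a := R) (b := T)))

/-- The part of the dual of `F` of order dividing `m`. -/
noncomputable abbrev dualPart {G : Type u} [Group G] (F : Subgroup G) (m : ℕ) :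
    Subgroup (F →* ℂˣ) := (powMonoidHom m : (F →* ℂˣ) →* (F →* ℂˣ)).ker

/-- The action on the dual part. -/
noncomputable def dualAct {G : Type u} [Group G] (F : Subgroup G) [F.Normal] (m : ℕ) :
    G →* MulAut (dualPart F m) where
  toFun x :=
    { toFun := fun l => ⟨(l : F →* ℂˣ).comp (conjBy F x⁻¹), by
        refine MonoidHom.ext fun n => ?_
        exact DFunLike.congr_fun l.2 (conjBy F x⁻¹ n)⟩
      invFun := fun l => ⟨(l : F →* ℂˣ).comp (conjBy F x), by
        refine MonoidHom.ext fun n => ?_
        exact DFunLike.congr_fun l.2 (conjBy F x n)⟩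
      left_inv := fun l => Subtype.ext (MonoidHom.ext fun n =>
        congrArg (l : F →* ℂˣ) (Subtype.ext (by simp [mul_assoc])))
      right_inv := fun l => Subtype.ext (MonoidHom.ext fun n =>
        congrArg (l : F →* ℂˣ) (Subtype.ext (by simp [mul_assoc])))
      map_mul' := fun _ _ => rfl }
  map_one' := MulEquiv.ext fun l => Subtype.ext (MonoidHom.ext fun n =>
    congrArg (l : F →* ℂˣ) (Subtype.ext (by simp)))
  map_mul' x y := MulEquiv.ext fun l => Subtype.ext (MonoidHom.ext fun n =>
    congrArg (l : F →* ℂˣ) (Subtype.ext (by simp [mul_assoc])))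

theorem index_inertia_squarefree {G : Type u} [Group G] [Fintype G] (h : SqfDegrees G)
    (F : Subgroup G) [F.Normal] [Fintype F] (l : F →* ℂˣ) :
    Squarefree (inertia F (fun n : F => (l n : ℂ))).index := by
  have hθ : IsIrrCharacter F (fun n : F => (l n : ℂ)) := Chars.isIrrCharacter_linear l
  obtain ⟨χ, hχ⟩ := exists_over F hθ
  set θ := fun n : F => (l n : ℂ) with hθdef
  set e := multNat (fun n : F => (χ : G → ℂ) n) θ with hedef
  have hem : classInner (fun n : F => (χ : G → ℂ) n) θ = (e : ℂ) :=
    inner_eq_multNat (Chars.isCharacter_restrict F (Chars.isCharacter_of_irr χ.2))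
      (Chars.isCharacter_of_irr hθ)
  have h1 := clifford_degree F χ.2 hθ hχ
  rw [hem, CharApps.deg_eq, show θ 1 = 1 by simp [hθdef], mul_one] at h1
  have h2 : charDegree (χ : G → ℂ) = e * (inertia F θ).index := by exact_mod_cast h1
  exact Squarefree.squarefree_of_dvd (Dvd.intro_left _ h2.symm) (h χ)

theorem exists_linear_ne_one {G : Type u} [Group G] [Finite G] {F : Subgroup G}
    [hab : IsMulCommutative F] {f : F} (hf : f ≠ 1) : ∃ l : F →* ℂˣ, l f ≠ 1 := by
  letI : CommGroup F :=
    { (inferInstance : Group F) with mul_comm := hab.is_comm.comm }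
  haveI : NeZero (Monoid.exponent F : ℂ) :=
    ⟨Nat.cast_ne_zero.mpr Monoid.exponent_ne_zero_of_finite⟩
  exact CommGroup.exists_apply_ne_one_of_hasEnoughRootsOfUnity F ℂ hf

/-- The key bound, with trivial Frattini subgroup. -/
theorem relIndex_dvd_prime {G : Type u} [Group G] [Finite G] [Group.IsSolvable G]
    (hΦ : frattini G = ⊥) (h : SqfDegrees G) {r : ℕ} [hr : Fact r.Prime] (R : Subgroup G)
    [R.Normal] (hFR : fittingSubgroup G ≤ R)
    (hk : ∃ k : ℕ, (fittingSubgroup G).relIndex R = r ^ k) :
    (fittingSubgroup G).relIndex R ∣ r := by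
  classical
  haveI := Fintype.ofFinite G
  set F := fittingSubgroup G with hF
  haveI : F.Normal := Base.fittingSubgroup_normal' G
  haveI := Fintype.ofFinite F
  obtain ⟨k, hk⟩ := hk
  have hsoc := Cfsg.Agent.S0586.result hΦ
  have hmin : ∀ N ∈ {N : Subgroup G | N.Normal ∧ N ≠ ⊥ ∧ IsMulCommutative N ∧
      ∀ K : Subgroup G, K.Normal → K ≤ N → K = ⊥ ∨ K = N}, N ≤ Subgroup.centralizer (F : Set G) :=
    fun N hN => Subgroup.le_centralizer_iff.1
      (Base.IsMinimalNormal.fittingSubgroup_le_centralizer ⟨hN.1, hN.2.1, hN.2.2.2⟩)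
  have hFC : F ≤ Subgroup.centralizer (F : Set G) := by
    conv_lhs => rw [hF, hsoc]
    exact sSup_le hmin
  have hCF : Subgroup.centralizer (F : Set G) ≤ F := Base.centralizer_fittingSubgroup_le
  haveI : IsMulCommutative F := ⟨⟨fun a b => Subtype.ext
    (Subgroup.mem_centralizer_iff.1 (hFC b.2) a a.2)⟩⟩
  set m := ordCompl[r] (Nat.card F) with hmdef
  have hm : m.Coprime r :=
    ((Nat.coprime_ordCompl hr.out (Nat.card_pos (α := F)).ne')).symm
  set ψ := (dualAct F m).comp R.subtype with hψdef
  have hle : F.subgroupOf R ≤ ψ.ker := by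
    intro x hx
    refine MonoidHom.mem_ker.2 (MulEquiv.ext fun l => Subtype.ext (MonoidHom.ext fun n => ?_))
    show (l : F →* ℂˣ) (conjBy F (x : G)⁻¹ n) = (l : F →* ℂˣ) n
    congr 1
    apply Subtype.ext
    have h1 := Subgroup.mem_centralizer_iff.1 (hFC n.2) (x : G) (Subgroup.mem_subgroupOf.1 hx)
    show (x : G)⁻¹ * (n : G) * (x : G)⁻¹⁻¹ = n
    rw [inv_inv, mul_assoc, ← h1, inv_mul_cancel_left]
  -- elements acting trivially on the dual part centralize F
  have hker : ψ.ker ≤ F.subgroupOf R := by
    intro x hx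
    rw [Subgroup.mem_subgroupOf]
    apply hCF
    have hW : ∀ f : F, f ^ m = 1 → conjBy F (x : G)⁻¹ f = f := by
      intro f hf
      by_contra hne
      set g := (conjBy F (x : G)⁻¹ f)⁻¹ * f with hg
      have hg1 : g ≠ 1 := fun h => hne (inv_mul_eq_one.1 h)
      have hgm : g ^ m = 1 := by
        have hc : Commute (conjBy F (x : G)⁻¹ f)⁻¹ f := mul_comm' _ _
        rw [hg, hc.mul_pow, inv_pow, ← map_pow, hf, map_one, inv_one, one_mul]
      set a := ordProj[r] (Nat.card F) with hadef
      have ham : a * m = Nat.card F := Nat.ordProj_mul_ordCompl_eq_self _ _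
      have hga : g ^ a ≠ 1 := by
        intro hga
        apply hg1
        have hco : a.Coprime m := Nat.Coprime.pow_left _ hm.symm
        have := pow_gcd_eq_one.2 ⟨hga, hgm⟩
        rwa [Nat.coprime_iff_gcd_eq_one.1 hco, pow_one] at this
      obtain ⟨l, hl⟩ := exists_linear_ne_one hga
      have hmem : l ^ a ∈ dualPart F m := by
        show (l ^ a) ^ m = 1
        refine (pow_mul l a m).symm.trans ?_
        rw [ham]
        refine MonoidHom.ext fun n => ?_
        rw [MonoidHom.pow_apply, ← map_pow, pow_card_eq_one', map_one, MonoidHom.one_apply]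
      have h1 : ((ψ x) (⟨l ^ a, hmem⟩ : dualPart F m) : F →* ℂˣ) f = (l ^ a) f := by
        rw [MonoidHom.mem_ker.1 hx]; rfl
      apply hl
      have h2 : (l ^ a) (conjBy F (x : G)⁻¹ f) = (l ^ a) f := h1
      show l (g ^ a) = 1
      rw [map_pow]
      show (l ^ a) g = 1
      rw [hg, map_mul, map_inv, h2, inv_mul_cancel]
    have hfix : ∀ N ∈ {N : Subgroup G | N.Normal ∧ N ≠ ⊥ ∧ IsMulCommutative N ∧
        ∀ K : Subgroup G, K.Normal → K ≤ N → K = ⊥ ∨ K = N},
        N ≤ Subgroup.centralizer ({(x : G)} : Set G) := by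
      intro N hN
      have hmN : Base.IsMinimalNormal N := ⟨hN.1, hN.2.1, hN.2.2.2⟩
      haveI := hN.1
      have hNF : N ≤ F := by rw [hF, hsoc]; exact le_sSup hN
      haveI := hN.2.2.1
      obtain ⟨q, hq, -, -, hNq⟩ := hmN.exists_prime inferInstance
      haveI := Fact.mk hq
      by_cases hqr : q = r
      · subst hqr
        -- an r-chief factor is centralised
        let φ : R →* MulAut N := (MulAut.conjNormal).comp R.subtype
        have hφF : F.subgroupOf R ≤ φ.ker := by
          intro y hy
          refine MonoidHom.mem_ker.2 (MulEquiv.ext fun n => Subtype.ext ?_)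
          have h1 := Subgroup.mem_centralizer_iff.1 (hFC (hNF n.2)) (y : G)
            (Subgroup.mem_subgroupOf.1 hy)
          show (y : G) * (n : G) * (y : G)⁻¹ = n
          rw [h1, mul_inv_cancel_right]
        have hQ : IsPGroup q φ.range := by
          have hd : Nat.card φ.range ∣ q ^ k := by
            rw [← Subgroup.index_ker, ← hk]
            exact Subgroup.index_dvd_of_le hφF
          obtain ⟨j, -, hj⟩ := (Nat.dvd_prime_pow hq).1 hd
          exact IsPGroup.of_card hj
        have hdvd : q ∣ Nat.card N := by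
          obtain ⟨j, hj⟩ := hNq.exists_card_eq
          rcases j with _ | j
          · exact absurd (Subgroup.card_eq_one.1 (by simpa using hj)) hN.2.1
          · exact hj ▸ dvd_pow_self q (by omega)
        have h1fix : (1 : N) ∈ MulAction.fixedPoints φ.range N := fun g => map_one (g : MulAut N)
        obtain ⟨b, hb, hb1⟩ := hQ.exists_fixed_point_of_prime_dvd_card_of_fixed_point N hdvd h1fix
        have hC : (N ⊓ Subgroup.centralizer (R : Set G)).Normal := inferInstance
        rcases hN.2.2.2 _ hC inf_le_left with hbot | heq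
        · exfalso
          apply hb1
          have : (b : G) ∈ N ⊓ Subgroup.centralizer (R : Set G) := by
            refine ⟨b.2, Subgroup.mem_centralizer_iff.2 fun y hy => ?_⟩
            have := congrArg Subtype.val (hb ⟨φ ⟨y, hy⟩, ⟨⟨y, hy⟩, rfl⟩⟩)
            change y * (b : G) * y⁻¹ = b at this
            exact mul_inv_eq_iff_eq_mul.1 this
          rw [hbot, Subgroup.mem_bot] at this
          exact (Subtype.ext this).symm
        · intro n hn
          rw [Subgroup.mem_centralizer_singleton_iff]
          exact ((Subgroup.mem_centralizer_iff.1 (heq.ge hn).2) x x.2).symm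
      · intro n hn
        rw [Subgroup.mem_centralizer_singleton_iff]
        have hnm : (⟨n, hNF hn⟩ : F) ^ m = 1 := by
          apply orderOf_dvd_iff_pow_eq_one.1
          rw [hmdef]
          have hd : orderOf (⟨n, hNF hn⟩ : F) ∣ Nat.card F := orderOf_dvd_natCard _
          obtain ⟨j, hj⟩ := IsPGroup.iff_orderOf.1 hNq ⟨n, hn⟩
          rw [Subgroup.orderOf_mk] at hj
          rw [Subgroup.orderOf_mk, hj] at hd ⊢
          have hco : (q ^ j).Coprime (ordProj[r] (Nat.card F)) :=
            Nat.Coprime.pow j _ ((Nat.coprime_primes hq hr.out).2 hqr)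
          refine hco.dvd_of_dvd_mul_left ?_
          rwa [Nat.ordProj_mul_ordCompl_eq_self]
        have h1 := congrArg Subtype.val (hW ⟨n, hNF hn⟩ hnm)
        change (x : G)⁻¹ * n * (x : G)⁻¹⁻¹ = n at h1
        rw [inv_inv] at h1
        calc n * (x : G) = (x : G) * ((x : G)⁻¹ * n * x) := by group
          _ = x * n := by rw [h1]
    rw [Subgroup.mem_centralizer_iff]
    intro y hy
    have hyF : y ∈ sSup {N : Subgroup G | N.Normal ∧ N ≠ ⊥ ∧ IsMulCommutative N ∧
        ∀ K : Subgroup G, K.Normal → K ≤ N → K = ⊥ ∨ K = N} := hsoc ▸ hy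
    exact Subgroup.mem_centralizer_singleton_iff.1 (sSup_le hfix hyF)
  have hkereq : ψ.ker = F.subgroupOf R := le_antisymm hker hle
  have hcard : Nat.card ψ.range = F.relIndex R := by
    rw [← Subgroup.index_ker, hkereq]; rfl
  have horb : ∀ w : dualPart F m, (MulAction.stabilizer ψ.range w).index ∣ r := by
    intro w
    set T := inertia F (fun n : F => ((w : F →* ℂˣ) n : ℂ)) with hT
    have e : (MulAction.stabilizer ψ.range w).comap ψ.rangeRestrict = T.subgroupOf R := by
      ext x
      rw [Subgroup.mem_comap, MulAction.mem_stabilizer_iff, Subgroup.mem_subgroupOf,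
        ← inv_mem_iff (x := (x : G)), hT, mem_inertia]
      constructor
      · intro hx n
        exact congrArg Units.val (DFunLike.congr_fun (congrArg Subtype.val hx) n)
      · intro hx
        exact Subtype.ext (MonoidHom.ext fun n => Units.ext (hx n))
    have hidx : (MulAction.stabilizer ψ.range w).index = T.relIndex R := by
      rw [Subgroup.relIndex, ← e,
        Subgroup.index_comap_of_surjective _ ψ.rangeRestrict_surjective]
    have hsq : Squarefree (T.relIndex R) := Squarefree.squarefree_of_dvd (relIndex_dvd_index R T)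
      (index_inertia_squarefree h F (w : F →* ℂˣ))
    have hpd : T.relIndex R ∣ r ^ k := by
      rw [← hk]
      refine Subgroup.index_dvd_of_le fun y hy => ?_
      exact le_inertia F (Chars.isClassFunction_of_isCharacter (Chars.isCharacter_of_irr
        (Chars.isIrrCharacter_linear (w : F →* ℂˣ)))) hy
    obtain ⟨j, -, hj⟩ := (Nat.dvd_prime_pow hr.out).1 hpd
    rw [hidx, hj]
    rw [hj] at hsq
    rcases j with _ | _ | j
    · simp
    · simp
    · exfalso
      exact hr.out.ne_one (Nat.isUnit_iff.1 (hsq r ⟨r ^ j, by ring⟩))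
  have hQ : IsPGroup r ψ.range := IsPGroup.of_card (hcard.trans hk)
  rw [← hcard]
  refine orbits_dvd_prime ?_ ψ.range hQ horb
  intro c hc
  have h1 : c ^ m = 1 := Subtype.ext c.2
  have := pow_gcd_eq_one.2 ⟨h1, hc⟩
  rwa [Nat.coprime_iff_gcd_eq_one.1 hm, pow_one] at this

/-- A solvable group whose `p`-cores have order at most `p` is metabelian. -/
theorem derivedSeries_two_of_cores {H : Type u} [Group H] [Finite H] [Group.IsSolvable H]
    (h : ∀ p : ℕ, p.Prime → Nat.card (pCore p H) ∣ p) : derivedSeries H 2 = ⊥ := by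
  have hcomm : ∀ p : Nat.Primes, ∀ a b : H, ∀ c ∈ pCore (p : ℕ) H, ⁅a, b⁆ * c = c * ⁅a, b⁆ := by
    intro p a b c hc
    haveI := Fact.mk p.2
    haveI : IsCyclic (pCore (p : ℕ) H) := by
      rcases (Nat.dvd_prime p.2).1 (h p p.2) with h1 | h1
      · haveI : Subsingleton (pCore (p : ℕ) H) := (Nat.card_eq_one_iff_unique.1 h1).1
        infer_instance
      · exact isCyclic_of_prime_card h1
    let f : H →* MulAut (pCore (p : ℕ) H) := MulAut.conjNormal
    have : f ⁅a, b⁆ = 1 := by
      rw [map_commutatorElement]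
      exact commutatorElement_eq_one_iff_mul_comm.2
        ((IsCyclic.mulAutMulEquiv _).injective (by rw [map_mul, map_mul, mul_comm]))
    have h2 := congrArg Subtype.val (DFunLike.congr_fun this ⟨c, hc⟩)
    simp only [f, MulAut.conjNormal_apply, MulAut.one_apply] at h2
    exact mul_inv_eq_iff_eq_mul.1 h2
  have hcen : commutator H ≤ Subgroup.centralizer (fittingSubgroup H : Set H) := by
    rw [Subgroup.le_centralizer_iff, Base.fittingSubgroup_eq_iSup_pCore, iSup_le_iff]
    intro p c hc
    rw [Subgroup.mem_centralizer_iff]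
    intro z hz
    have hle : commutator H ≤ Subgroup.centralizer ({c} : Set H) := by
      rw [commutator_def, Subgroup.commutator_le]
      intro a _ b _
      exact Subgroup.mem_centralizer_singleton_iff.2 (hcomm p a b c hc)
    exact Subgroup.mem_centralizer_singleton_iff.1 (hle hz)
  refine derivedSeries_two_of_comm fun a ha b hb => ?_
  exact (Subgroup.mem_centralizer_iff.1 (hcen hb) a
    (Base.centralizer_fittingSubgroup_le (hcen ha)))

theorem derivedSeries_two_le_fitting_of_frattini {G : Type u} [Group G] [Finite G]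
    [Group.IsSolvable G] (hΦ : frattini G = ⊥) (h : SqfDegrees G) :
    derivedSeries G 2 ≤ fittingSubgroup G := by
  haveI : (fittingSubgroup G).Normal := Base.fittingSubgroup_normal' G
  set F := fittingSubgroup G
  set π := QuotientGroup.mk' F with hπ
  haveI : Group.IsSolvable (G ⧸ F) :=
    Group.isSolvable_of_surjective (QuotientGroup.mk'_surjective F)
  have h2 : derivedSeries (G ⧸ F) 2 = ⊥ := by
    refine derivedSeries_two_of_cores fun p hp => ?_
    haveI := Fact.mk hp
    set R := (pCore p (G ⧸ F)).comap π with hR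
    have hFR : F ≤ R := QuotientGroup.le_comap_mk' F _
    have e : F.relIndex R = Nat.card (pCore p (G ⧸ F)) := by
      conv_lhs => rw [← QuotientGroup.ker_mk' F]
      rw [← MonoidHom.comap_bot, Subgroup.relIndex_comap, hR,
        Subgroup.map_comap_eq_self_of_surjective (QuotientGroup.mk'_surjective F),
        Subgroup.relIndex_bot_left]
    obtain ⟨k, hk⟩ := (Base.isPGroup_pCore p (G ⧸ F)).exists_card_eq
    exact e ▸ relIndex_dvd_prime hΦ h R hFR ⟨k, e.trans hk⟩
  intro x hx
  rw [← QuotientGroup.eq_one_iff]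
  exact Subgroup.mem_bot.1 (h2 ▸ map_derivedSeries_le_derivedSeries π 2 ⟨x, hx, rfl⟩)

theorem derivedSeries_four {G : Type u} [Group G] [Finite G] [Group.IsSolvable G]
    (h : SqfDegrees G) : derivedSeries G 4 = ⊥ := by
  haveI : Group.IsSolvable (G ⧸ frattini G) :=
    Group.isSolvable_of_surjective (QuotientGroup.mk'_surjective (frattini G))
  haveI : (fittingSubgroup G).Normal := Base.fittingSubgroup_normal' G
  have h1 : derivedSeries G 2 ≤ fittingSubgroup G := by
    intro x hx
    have h2 := derivedSeries_two_le_fitting_of_frattini (Base.frattini_quotient_frattini G)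
      (h.quotient (frattini G))
      (map_derivedSeries_le_derivedSeries (QuotientGroup.mk' (frattini G)) 2 ⟨x, hx, rfl⟩)
    rw [Base.fittingSubgroup_quotient_frattini, ← Subgroup.mem_comap,
      Base.comap_map_mk', sup_eq_left.2 (Base.frattini_le_fittingSubgroup G)] at h2
    exact h2
  haveI := Base.isNilpotent_fittingSubgroup G
  have h3 := derivedSeries_two_of_nilpotent (h.normal (fittingSubgroup G))
  have h4 := CfsgLib.SolvStruct.AbNilDerived.derivedSeries_add_le_map h1 2
  rw [h3, Subgroup.map_bot, le_bot_iff] at h4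
  exact h4

end CfsgLib.SquarefreeDegrees
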