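import Mathlib

/-!
# Coprime abelian actions with all orbits of size at most a prime

A `p`-group of automorphisms of an abelian group of order prime to `p`, all of whose orbits have
size dividing `p`, has order dividing `p`.
-/

set_option autoImplicit false

namespace CfsgLib.SquarefreeDegrees

theorem orbits_dvd_prime {L : Type*} [CommGroup L] {p : ℕ} [hp : Fact p.Prime]
    (hL : ∀ c : L, c ^ p = 1 → c = 1) (Q : Subgroup (MulAut L)) [Finite Q] (hQ : IsPGroup p Q)
    (h : ∀ w : L, (MulAction.stabilizer Q w).index ∣ p) : Nat.card Q ∣ p := by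
  obtain ⟨n, hn⟩ := hQ.exists_card_eq
  rcases Nat.lt_or_ge n 2 with hn2 | hn2
  · rw [hn]
    exact (pow_dvd_pow p (show n ≤ 1 by omega)).trans (pow_one p).dvd
  exfalso
  obtain ⟨A, hA⟩ := Sylow.exists_subgroup_card_pow_prime p
    (hn ▸ pow_dvd_pow p hn2 : p ^ 2 ∣ Nat.card Q)
  haveI := IsPGroup.isMulCommutative_of_card_eq_prime_sq hA
  have hidx : ∀ w : L, (MulAction.stabilizer A w).index ∣ p := by
    intro w
    have h1 : MulAction.stabilizer A w = (MulAction.stabilizer Q w).subgroupOf A := by
      ext a
      simp [Subgroup.mem_subgroupOf, MulAction.mem_stabilizer_iff]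
      rfl
    have h2 : ∃ j, (MulAction.stabilizer A w).index = p ^ j := by
      obtain ⟨j, -, hj⟩ := (Nat.dvd_prime_pow hp.out).1
        (hA ▸ (MulAction.stabilizer A w).index_dvd_card)
      exact ⟨j, hj⟩
    obtain ⟨j, hj⟩ := h2
    have h3 : (MulAction.stabilizer A w).index ≤ p := by
      rw [h1]
      refine le_trans ?_ (Nat.le_of_dvd hp.out.pos (h w))
      rw [← Subgroup.relIndex_top_right (MulAction.stabilizer Q w)]
      refine Subgroup.relIndex_le_of_le_right le_top ?_
      rw [Subgroup.relIndex_top_right]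
      exact fun h0 => hp.out.ne_zero (Nat.eq_zero_of_zero_dvd (h0 ▸ h w))
    rw [hj] at h3 ⊢
    have : j ≤ 1 := by
      by_contra hc
      have : p ^ 1 < p ^ j := Nat.pow_lt_pow_right hp.out.one_lt (by omega)
      rw [pow_one] at this
      omega
    exact (pow_dvd_pow p this).trans (pow_one p).dvd
  have htriv : ∀ a : A, (∀ w : L, a • w = w) → a = 1 := fun a ha =>
    Subtype.ext (Subtype.ext (MulEquiv.ext fun w => ha w))
  have hp1 := hp.out.one_lt
  -- two different stabilisers of index p
  have hex : ∀ S : Subgroup A, 1 < Nat.card S → ∃ w : L, ¬ S ≤ MulAction.stabilizer A w := by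
    intro S hS
    by_contra hc
    push Not at hc
    have : S = ⊥ := (Subgroup.eq_bot_iff_forall _).2 fun a ha => htriv a fun w => hc w ha
    rw [this, Subgroup.card_bot] at hS
    omega
  have hbig : ∀ w : L, 1 < Nat.card (MulAction.stabilizer A w) := by
    intro w
    have h1 := (MulAction.stabilizer A w).card_mul_index
    have h2 := Nat.le_of_dvd hp.out.pos (hidx w)
    rw [hA] at h1
    by_contra hc
    have : Nat.card (MulAction.stabilizer A w) * (MulAction.stabilizer A w).index ≤ 1 * p :=
      Nat.mul_le_mul (by omega) h2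
    nlinarith
  obtain ⟨w, hw⟩ := hex ⊤ (by rw [Subgroup.card_top, hA]; nlinarith)
  set M := MulAction.stabilizer A w with hM
  obtain ⟨w', hw'⟩ := hex M (hbig w)
  set M' := MulAction.stabilizer A w' with hM'
  set M'' := MulAction.stabilizer A (w * w') with hM''
  have hMtop : M ≠ ⊤ := fun h => hw h.ge
  have hidxp : ∀ v : L, MulAction.stabilizer A v ≠ ⊤ → (MulAction.stabilizer A v).index = p :=
    fun v hv => ((Nat.dvd_prime hp.out).1 (hidx v)).resolve_left
      fun h => hv (Subgroup.index_eq_one.1 h)
  have hle : ∀ u v : L, MulAction.stabilizer A u ≠ ⊤ → MulAction.stabilizer A v ≠ ⊤ →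
      MulAction.stabilizer A v ≤ MulAction.stabilizer A u →
      MulAction.stabilizer A v = MulAction.stabilizer A u := by
    intro u v hu hv huv
    refine le_antisymm huv ?_
    rw [← Subgroup.relIndex_eq_one]
    have h1 := Subgroup.relIndex_mul_index huv
    rw [hidxp u hu, hidxp v hv] at h1
    exact Nat.mul_eq_right hp.out.pos.ne' |>.1 h1
  have hM'top : M' ≠ ⊤ := fun h => hw' (h ▸ le_top)
  -- the product has a stabiliser different from M
  have h12 : ¬ M'' ≤ M := by
    intro hle'
    apply hw'
    intro a ha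
    have ha'' : a ∈ M'' := by
      by_cases htop : M'' = ⊤
      · rw [htop]; trivial
      · exact (hle w (w * w') hMtop htop hle').ge ha
    have ha'' := MulAction.mem_stabilizer_iff.1 ha''
    have ha := MulAction.mem_stabilizer_iff.1 ha
    rw [MulAction.mem_stabilizer_iff]
    have e : a • (w * w') = (a • w) * (a • w') := map_mul ((a : Q) : MulAut L) w w'
    rw [e, ha] at ha''
    exact mul_left_cancel ha''
  obtain ⟨a, ha'', haM⟩ := SetLike.not_le_iff_exists.1 h12
  have hsmul : ∀ (x : A) (u v : L), x • (u * v) = x • u * x • v := fun x u v =>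
    map_mul ((x : Q) : MulAut L) u v
  set c := (a • w) * w⁻¹ with hc
  have hc2 : c = w' * (a • w')⁻¹ := by
    have h1 : a • w * a • w' = w * w' := by rw [← hsmul]; exact ha''
    rw [hc, mul_inv_eq_iff_eq_mul, mul_comm (w' : L), mul_assoc, mul_comm w' w, ← h1]
    rw [mul_comm (a • w) (a • w'), inv_mul_cancel_left]
  have hfix : ∀ m : A, m • w = w → m • (a • w) = a • w := by
    intro m hm
    rw [smul_smul, mul_comm', ← smul_smul, hm]
  have hfix' : ∀ m : A, m • w' = w' → m • (a • w') = a • w' := by
    intro m hm
    rw [smul_smul, mul_comm', ← smul_smul, hm]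
  have hcfix : ∀ m : A, m • c = c := by
    have hinv : ∀ (m : A) (v : L), m • v⁻¹ = (m • v)⁻¹ := fun m v => map_inv ((m : Q) : MulAut L) v
    have hboth : M ⊔ M' ≤ MulAction.stabilizer A c := by
      refine sup_le (fun m hm => ?_) (fun m hm => ?_)
      · rw [hM, MulAction.mem_stabilizer_iff] at hm
        rw [MulAction.mem_stabilizer_iff, hc, hsmul, hinv, hfix m hm, hm]
      · rw [hM', MulAction.mem_stabilizer_iff] at hm
        rw [MulAction.mem_stabilizer_iff, hc2, hsmul, hinv, hfix' m hm, hm]
    intro m
    have htop : MulAction.stabilizer A c = ⊤ := by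
      by_contra htop
      have e1 := hle c w htop hMtop (le_sup_left.trans hboth)
      have e2 := hle c w' htop hM'top (le_sup_right.trans hboth)
      exact hw' (le_of_eq (e1.trans e2.symm))
    exact MulAction.mem_stabilizer_iff.1 (htop ▸ Subgroup.mem_top m)
  have hpow : ∀ k : ℕ, (a ^ k) • w = c ^ k * w := by
    intro k
    induction k with
    | zero => simp
    | succ k ih =>
      rw [pow_succ', mul_smul, ih, hsmul, hcfix a |> fun h => show a • (c ^ k) = c ^ k by
        rw [show a • (c ^ k) = (a • c) ^ k from map_pow ((a : Q) : MulAut L) c k, h],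
        pow_succ, mul_assoc, hc, inv_mul_cancel_right]
  have hap : (a ^ p) • w = w := by
    haveI : M.Normal := inferInstance
    have : a ^ p ∈ M := hidxp w hMtop ▸ M.pow_index_mem a
    exact MulAction.mem_stabilizer_iff.1 this
  have hc1 : c = 1 := hL c (by
    have := hpow p
    rw [hap] at this
    exact mul_eq_right.1 this.symm)
  apply haM
  rw [hM, MulAction.mem_stabilizer_iff]
  exact mul_inv_eq_one.1 hc1

end CfsgLib.SquarefreeDegrees
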